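import Mathlib

/-!
# Generic surjectivity in codimension one (linear algebra over a generic point)

`t : σ → ι → η → k` is a trilinear form on `E × P × H`. If `t(p,·,s) ≠ 0` for all `p ≠ 0`, `s ≠ 0`
over the algebraically closed field `k` and `dim P < dim H`, then for every point `x` of `E`
in a field `F` all of whose coordinates but one are algebraically independent, the map
`P ⊗ F ⟶ (H ⊗ F)^*`, `p ↦ t(p,x,·)` is injective.
-/

set_option autoImplicit false

namespace K758.Cod

open Algebra

section exch

variable {k F : Type*} [Field k] [Field F] [Algebra k F]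

theorem mem_closure (S : Set F) {a : F} (ha : a ∈ IntermediateField.adjoin k S) :
    IsAlgebraic (Algebra.adjoin k S) a := by
  induction ha using IntermediateField.adjoin_induction with
  | mem x hx => exact isAlgebraic_algebraMap (⟨x, Algebra.subset_adjoin hx⟩ : Algebra.adjoin k S)
  | algebraMap x =>
    exact isAlgebraic_algebraMap (⟨algebraMap k F x, Subalgebra.algebraMap_mem _ x⟩ :
      Algebra.adjoin k S)
  | add x y _ _ hx hy => exact hx.add hy
  | inv x _ hx => exact hx.inv
  | mul x y _ _ hx hy => exact hx.mul hy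

/-- Exchange: algebraically independent elements algebraic over `k(S)` are at most `#S` many. -/
theorem card_le (S : Set F) (hS : S.Finite) {τ : Type*} [Fintype τ] (y : τ → F)
    (hy : AlgebraicIndependent k y) (h : ∀ i, y i ∈ IntermediateField.adjoin k S) :
    Fintype.card τ ≤ S.ncard := by
  classical
  let M := AlgebraicIndependent.matroid k F
  have h1 : M.Indep (Set.range y) := by
    rw [AlgebraicIndependent.matroid_indep_iff]
    exact hy.to_subtype_range
  have h2 : Set.range y ⊆ M.closure S := by
    rw [AlgebraicIndependent.matroid_closure_eq]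
    rintro _ ⟨i, rfl⟩
    exact mem_closure S (h i)
  have h3 : M.eRk (Set.range y) ≤ M.eRk S := by
    rw [← M.eRk_closure_eq S]
    exact M.eRk_mono h2
  rw [h1.eRk_eq_encard] at h3
  have h4 := h3.trans (M.eRk_le_encard S)
  have h5 : (Set.range y).encard = Fintype.card τ := by
    rw [← Set.image_univ, hy.injective.encard_image, Set.encard_univ, ENat.card_eq_coe_fintype_card]
  rw [h5, ← hS.cast_ncard_eq] at h4
  exact_mod_cast h4

end exch

section nullst

variable {k F : Type*} [Field k] [IsAlgClosed k] [Field F] [Algebra k F]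

/-- A trilinear form with `t(p,·,s) ≠ 0` for nonzero `p, s` over an algebraically closed field
keeps this property over every extension field. -/
theorem ext_nondeg {σ ι η : Type*} [Fintype σ] [Fintype ι] [Fintype η] (t : σ → ι → η → k)
    (ht : ∀ (p : ι → k) (s : η → k), p ≠ 0 → s ≠ 0 → ∃ l, ∑ i, ∑ a, t l i a * p i * s a ≠ 0)
    (p : ι → F) (s : η → F) (hp : p ≠ 0) (hs : s ≠ 0) :
    ∃ l, ∑ i, ∑ a, algebraMap k F (t l i a) * p i * s a ≠ 0 := by
  classical
  by_contra hcon
  push Not at hcon
  obtain ⟨j, hj⟩ : ∃ j, p j ≠ 0 := Function.ne_iff.mp hp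
  obtain ⟨b, hb⟩ : ∃ b, s b ≠ 0 := Function.ne_iff.mp hs
  let z : ι ⊕ η → F := Sum.elim (fun i => p i / p j) (fun a => s a / s b)
  let I : Ideal (MvPolynomial (ι ⊕ η) k) := RingHom.ker (MvPolynomial.aeval (R := k) z).toRingHom
  have hI : I ≠ ⊤ := RingHom.ker_ne_top _
  obtain ⟨m, hm, hIm⟩ := Ideal.exists_le_maximal I hI
  obtain ⟨x, rfl⟩ := (MvPolynomial.isMaximal_iff_eq_vanishingIdeal_singleton).mp hm
  have key : ∀ q : MvPolynomial (ι ⊕ η) k, MvPolynomial.aeval z q = 0 →
      MvPolynomial.eval x q = 0 := by
    intro q hq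
    have h1 : q ∈ I := hq
    have h2 := hIm h1
    rw [MvPolynomial.mem_vanishingIdeal_singleton_iff] at h2
    simpa [MvPolynomial.aeval_eq_eval] using h2
  have h1 : x (Sum.inl j) = 1 := by
    have := key (MvPolynomial.X (Sum.inl j) - 1) (by simp [z, hj])
    simpa [sub_eq_zero] using this
  have h2 : x (Sum.inr b) = 1 := by
    have := key (MvPolynomial.X (Sum.inr b) - 1) (by simp [z, hb])
    simpa [sub_eq_zero] using this
  obtain ⟨l, hl⟩ := ht (fun i => x (Sum.inl i)) (fun a => x (Sum.inr a))
    (fun h => one_ne_zero (h1.symm.trans (congrFun h j)))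
    (fun h => one_ne_zero (h2.symm.trans (congrFun h b)))
  apply hl
  have := key (∑ i, ∑ a, MvPolynomial.C (t l i a) * MvPolynomial.X (Sum.inl i) *
    MvPolynomial.X (Sum.inr a)) (by
      simp only [map_sum, map_mul, MvPolynomial.aeval_X, MvPolynomial.aeval_C]
      have h3 := hcon l
      have h4 : ∑ i, ∑ a, algebraMap k F (t l i a) * z (Sum.inl i) * z (Sum.inr a) =
          (∑ i, ∑ a, algebraMap k F (t l i a) * p i * s a) / (p j * s b) := by
        rw [Finset.sum_div]
        refine Finset.sum_congr rfl fun i _ => ?_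
        rw [Finset.sum_div]
        refine Finset.sum_congr rfl fun a _ => ?_
        simp only [z, Sum.elim_inl, Sum.elim_inr]
        field_simp
      rw [h4, h3, zero_div])
  simpa only [map_sum, map_mul, MvPolynomial.eval_C, MvPolynomial.eval_X] using this

end nullst

section gen

variable (k : Type*) {F : Type*} [Field k] [Field F] [Algebra k F]

/-- The field `k(x)` has transcendence degree at least `#σ - 1`. -/
def Gen {σ : Type*} [Fintype σ] (x : σ → F) : Prop :=
  ∀ S : Set F, S.Finite → (∀ l, x l ∈ IntermediateField.adjoin k S) → Fintype.card σ ≤ S.ncard + 1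

variable {k}

theorem gen_of_indep {σ : Type*} [Fintype σ] (x : σ → F) (j : σ)
    (hx : AlgebraicIndependent k (fun l : {l : σ // l ≠ j} => x l)) : Gen k x := by
  classical
  intro S hS h
  have hle := card_le S hS (fun l : {l : σ // l ≠ j} => x l) hx (fun l => h l)
  rw [Fintype.card_subtype_compl, Fintype.card_subtype_eq] at hle
  omega

/-- A point `a + c b` of the line through two independent generic points. -/
theorem gen_line {σ : Type*} [Fintype σ] (a b : σ → F)
    (hab : AlgebraicIndependent k (Sum.elim a b)) (c : F) : Gen k (fun l => a l + c * b l) := by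
  classical
  intro S hS h
  let S' : Set F := (S ∪ {c}) ∪ Set.range b
  have hmono : IntermediateField.adjoin k S ≤ IntermediateField.adjoin k S' :=
    IntermediateField.adjoin.mono k _ _
      (Set.subset_union_left.trans Set.subset_union_left)
  have hc : c ∈ IntermediateField.adjoin k S' :=
    IntermediateField.subset_adjoin k S' (Or.inl (Or.inr rfl))
  have hb : ∀ l, b l ∈ IntermediateField.adjoin k S' := fun l =>
    IntermediateField.subset_adjoin k S' (Or.inr ⟨l, rfl⟩)
  have ha : ∀ l, a l ∈ IntermediateField.adjoin k S' := by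
    intro l
    have h1 := sub_mem (hmono (h l)) (mul_mem hc (hb l))
    simpa using h1
  have hle := card_le S' ((hS.union (Set.finite_singleton c)).union (Set.finite_range b))
    (Sum.elim a b) hab (by rintro (l | l); exacts [ha l, hb l])
  have h1 : S'.ncard ≤ (S ∪ {c}).ncard + (Set.range b).ncard := Set.ncard_union_le _ _
  have h2 : (S ∪ {c}).ncard ≤ S.ncard + 1 := by
    refine (Set.ncard_union_le _ _).trans ?_
    rw [Set.ncard_singleton]
  have h3 : (Set.range b).ncard ≤ Fintype.card σ := by
    rw [← Set.image_univ]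
    refine (Set.ncard_image_le Set.finite_univ).trans ?_
    rw [Set.ncard_univ, Nat.card_eq_fintype_card]
  rw [Fintype.card_sum] at hle
  omega

/-- The generic point of a principal prime ideal of the polynomial ring. -/
theorem gen_of_principal {σ : Type*} [Fintype σ] (x : σ → F) (f : MvPolynomial σ k)
    (hf : RingHom.ker (MvPolynomial.aeval (R := k) x).toRingHom = Ideal.span {f}) : Gen k x := by
  classical
  have hker : ∀ g, MvPolynomial.aeval x g = 0 → f ∣ g := by
    intro g hg
    have : g ∈ RingHom.ker (MvPolynomial.aeval (R := k) x).toRingHom := hg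
    rw [hf] at this
    exact Ideal.mem_span_singleton.mp this
  rcases isEmpty_or_nonempty σ with hσ | ⟨⟨j0⟩⟩
  · intro S _ _
    rw [Fintype.card_eq_zero]
    exact Nat.zero_le _
  by_cases hf0 : f = 0
  · refine gen_of_indep x j0 ?_
    have : AlgebraicIndependent k x := by
      rw [algebraicIndependent_iff]
      intro g hg
      have := hker g hg
      rwa [hf0, zero_dvd_iff] at this
    exact this.comp _ Subtype.val_injective
  have hj : ∃ j, f.degreeOf j ≠ 0 := by
    by_contra hcon
    push Not at hcon
    have h1 : f.vars = ∅ := by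
      rw [Finset.eq_empty_iff_forall_notMem]
      intro j hj
      rw [MvPolynomial.mem_vars_iff_degreeOf_ne_zero] at hj
      exact hj (hcon j)
    rw [MvPolynomial.vars_eq_empty_iff_eq_C] at h1
    have h2 : f ∈ RingHom.ker (MvPolynomial.aeval (R := k) x).toRingHom := by
      rw [hf]; exact Ideal.mem_span_singleton_self f
    have h3 : MvPolynomial.aeval x f = 0 := h2
    rw [h1, MvPolynomial.aeval_C] at h3
    have h4 : MvPolynomial.coeff 0 f = 0 := (algebraMap k F).injective (by rw [h3, map_zero])
    rw [h4, MvPolynomial.C_0] at h1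
    exact hf0 h1
  obtain ⟨j, hj⟩ := hj
  refine gen_of_indep x j ?_
  rw [algebraicIndependent_iff]
  intro g hg
  by_contra hg0
  let e : {l : σ // l ≠ j} → σ := Subtype.val
  have h1 : MvPolynomial.aeval x (MvPolynomial.rename e g) = 0 := by
    rw [MvPolynomial.aeval_rename]; exact hg
  obtain ⟨h, hh⟩ := hker _ h1
  have hren : MvPolynomial.rename e g ≠ 0 := by
    intro h0
    exact hg0 (MvPolynomial.rename_injective e Subtype.val_injective (by rw [h0, map_zero]))
  have hh0 : h ≠ 0 := by
    rintro rfl
    rw [mul_zero] at hh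
    exact hren hh
  have h2 : (MvPolynomial.rename e g).degreeOf j = 0 := by
    by_contra hne
    have h3 := (MvPolynomial.mem_vars_iff_degreeOf_ne_zero ..).mpr hne
    have h4 := MvPolynomial.vars_rename e g h3
    rw [Finset.mem_image] at h4
    obtain ⟨l, _, hl⟩ := h4
    exact l.2 hl
  rw [hh, MvPolynomial.degreeOf_mul_eq hf0 hh0] at h2
  omega

end gen

section main

variable {k F : Type*} [Field k] [IsAlgClosed k] [Field F] [Algebra k F]

/-- The generic injectivity. -/
theorem eq_zero {σ ι η : Type*} [Fintype σ] [Fintype ι] [Fintype η] (t : σ → ι → η → k)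
    (hcard : Fintype.card ι < Fintype.card η)
    (ht : ∀ (p : ι → k) (s : η → k), p ≠ 0 → s ≠ 0 → ∃ l, ∑ i, ∑ a, t l i a * p i * s a ≠ 0)
    (x : σ → F) (hx : Gen k x) (p : ι → F)
    (hp : ∀ a, ∑ l, ∑ i, algebraMap k F (t l i a) * x l * p i = 0) : p = 0 := by
  classical
  by_contra hp0
  obtain ⟨j0, hj0⟩ : ∃ j, p j ≠ 0 := Function.ne_iff.mp hp0
  let p' : ι → F := fun i => p i / p j0
  let S0 : Set F := p' '' {i | i ≠ j0}
  let F0 := IntermediateField.adjoin k S0
  have hp'1 : p' j0 = 1 := div_self hj0
  have hp' : ∀ i, p' i ∈ F0 := by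
    intro i
    by_cases hi : i = j0
    · rw [hi, hp'1]; exact one_mem _
    · exact IntermediateField.subset_adjoin k S0 ⟨i, hi, rfl⟩
  let q : ι → F0 := fun i => ⟨p' i, hp' i⟩
  let T : η → σ → F0 := fun a l => ∑ i, algebraMap k F0 (t l i a) * q i
  have hTind : LinearIndependent F0 T := by
    rw [Fintype.linearIndependent_iff]
    intro s hs
    by_contra hne
    push Not at hne
    obtain ⟨b, hb⟩ := hne
    obtain ⟨l, hl⟩ := ext_nondeg (F := F) t ht p' (fun a => (s a : F))
      (fun h => one_ne_zero (hp'1.symm.trans (congrFun h j0)))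
      (fun h => hb (Subtype.ext (congrFun h b)))
    apply hl
    have h1 := congrArg (fun v : F0 => (v : F)) (congrFun hs l)
    simp only [Finset.sum_apply, Pi.smul_apply, smul_eq_mul, Pi.zero_apply, T] at h1
    rw [Finset.sum_comm]
    have h2 : ∀ a, ∑ i, algebraMap k F (t l i a) * p' i * (s a : F) =
        ((s a * ∑ i, algebraMap k F0 (t l i a) * q i : F0) : F) := by
      intro a
      rw [Finset.mul_sum]
      push_cast
      refine Finset.sum_congr rfl fun i _ => ?_
      simp only [q]
      rw [mul_comm (s a : F)]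
    simp_rw [h2]
    have h3 : ((∑ a, s a * ∑ i, algebraMap k F0 (t l i a) * q i : F0) : F) = 0 := by
      simpa using h1
    rw [← h3]
    push_cast
    rfl
  let φ : (σ → F0) →ₗ[F0] F := Fintype.linearCombination F0 x
  have hφ : ∀ a, φ (T a) = 0 := by
    intro a
    simp only [φ, Fintype.linearCombination_apply, T]
    have h1 := hp a
    have h2 : ∑ l, (∑ i, algebraMap k F0 (t l i a) * q i) • x l =
        (∑ l, ∑ i, algebraMap k F (t l i a) * x l * p i) / p j0 := by
      rw [Finset.sum_div]
      refine Finset.sum_congr rfl fun l _ => ?_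
      rw [Finset.sum_div, Finset.sum_smul]
      refine Finset.sum_congr rfl fun i _ => ?_
      rw [Algebra.smul_def, map_mul]
      change algebraMap k F (t l i a) * p' i * x l = _
      simp only [p']
      ring
    rw [h2, h1, zero_div]
  have hR : Submodule.span F0 (Set.range T) ≤ LinearMap.ker φ := by
    rw [Submodule.span_le]
    rintro _ ⟨a, rfl⟩
    exact hφ a
  have hfin1 : Module.finrank F0 (Submodule.span F0 (Set.range T)) = Fintype.card η :=
    finrank_span_eq_card hTind
  have hfin2 := Submodule.finrank_mono hR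
  have hfin3 := LinearMap.finrank_range_add_finrank_ker φ
  rw [Module.finrank_fintype_fun_eq_card] at hfin3
  let bs := Module.finBasis F0 (LinearMap.range φ)
  let S1 : Set F := Set.range (fun i => (bs i : F))
  let S : Set F := S0 ∪ S1
  have hS0 : S0.Finite := (Set.toFinite _).image _
  have hS1 : S1.Finite := Set.finite_range _
  have hF0 : F0 ≤ IntermediateField.adjoin k S :=
    IntermediateField.adjoin.mono k _ _ Set.subset_union_left
  have hmem : ∀ l, x l ∈ IntermediateField.adjoin k S := by
    intro l
    have h1 : x l ∈ LinearMap.range φ := by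
      refine ⟨Pi.single l 1, ?_⟩
      simp only [φ, Fintype.linearCombination_apply_single, one_smul]
    have h2 := bs.sum_repr ⟨x l, h1⟩
    have h3 := congrArg (fun v : LinearMap.range φ => (v : F)) h2
    simp only [AddSubmonoidClass.coe_finsetSum, SetLike.val_smul] at h3
    rw [← h3]
    refine sum_mem fun i _ => ?_
    rw [Algebra.smul_def]
    refine mul_mem (hF0 (bs.repr ⟨x l, h1⟩ i).2) ?_
    exact IntermediateField.subset_adjoin k S (Or.inr ⟨i, rfl⟩)
  have hle := hx S (hS0.union hS1) hmem
  have hn0 : S0.ncard ≤ Fintype.card ι - 1 := by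
    refine (Set.ncard_image_le (Set.toFinite _)).trans ?_
    have : ({i | i ≠ j0} : Set ι) = ((Finset.univ.erase j0 : Finset ι) : Set ι) := by
      ext i; simp
    rw [this, Set.ncard_coe_finset, Finset.card_erase_of_mem (Finset.mem_univ _),
      Finset.card_univ]
  have hn1 : S1.ncard ≤ Module.finrank F0 (LinearMap.range φ) := by
    have : S1 = ((Finset.univ.image (fun i => (bs i : F)) : Finset F) : Set F) := by
      ext i; simp [S1]
    rw [this, Set.ncard_coe_finset]
    refine Finset.card_image_le.trans ?_
    rw [Finset.card_univ, Fintype.card_fin]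
  have hn : S.ncard ≤ S0.ncard + S1.ncard := Set.ncard_union_le S0 S1
  have hι : 0 < Fintype.card ι := Fintype.card_pos_iff.mpr ⟨j0⟩
  omega

end main

end K758.Cod
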